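import Cfsg.Agent.Lib.Sporadic.J4Pres.DerT.Data

set_option autoImplicit false
set_option maxRecDepth 20000

/-! Generated certificate: a further relation of x, v (tools/cosetbound/gen_pairs.py; owner: helper21). -/

namespace CfsgLib.Sporadic.J4Pres.DerT
open CfsgLib.Recog.SporBound (Q)
open CfsgLib.Sporadic.PairEnum
open CfsgLib.ThreeTrans.CosetIndex (forallFrom)

set_option Elab.async false

theorem steps0 : cert.stepsPart cert.allRels 0 2 = true := by decide +kernel

theorem finals0 : cert.finalsPart 0 0 = true := by decide +kernel

theorem defs0 : forallFrom cert.defOK 0 183 = true := by decide +kernel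

end CfsgLib.Sporadic.J4Pres.DerT
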